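import Mathlib.CategoryTheory.Monoidal.Braided.Basic
import Mathlib.CategoryTheory.Monoidal.NaturalTransformation
import Mathlib.CategoryTheory.Groupoid
import Mathlib.CategoryTheory.Equivalence

/-! The free Picard category on a symmetric monoidal category, by generators and relations. -/

universe v u

open CategoryTheory MonoidalCategory

namespace Groth.PicardLib

section

variable (A : Type u)

/-- Formal objects. -/
inductive Obj : Type u
  | of : A → Obj
  | unit : Obj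
  | tensor : Obj → Obj → Obj
  | dual : Obj → Obj

end

variable (A : Type u) [Category.{v} A] [MonoidalCategory A] [SymmetricCategory A]

/-- Formal morphisms. -/
inductive Pre : Obj A → Obj A → Type (max u v)
  | id (X) : Pre X X
  | comp {X Y Z} (f : Pre X Y) (g : Pre Y Z) : Pre X Z
  | symm {X Y} (f : Pre X Y) : Pre Y X
  | wl (X) {Y Y'} (f : Pre Y Y') : Pre (Obj.tensor X Y) (Obj.tensor X Y')
  | wr {X X'} (f : Pre X X') (Y) : Pre (Obj.tensor X Y) (Obj.tensor X' Y)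
  | assoc (X Y Z) : Pre (Obj.tensor (Obj.tensor X Y) Z) (Obj.tensor X (Obj.tensor Y Z))
  | lu (X) : Pre (Obj.tensor Obj.unit X) X
  | ru (X) : Pre (Obj.tensor X Obj.unit) X
  | braid (X Y) : Pre (Obj.tensor X Y) (Obj.tensor Y X)
  | ev (X) : Pre (Obj.tensor (Obj.dual X) X) Obj.unit
  | map {a b : A} (f : a ⟶ b) : Pre (Obj.of a) (Obj.of b)
  | mul (a b : A) : Pre (Obj.tensor (Obj.of a) (Obj.of b)) (Obj.of (a ⊗ b))
  | one : Pre Obj.unit (Obj.of (𝟙_ A))

variable {A}

open Pre in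
/-- The relations. -/
inductive Rel : ∀ {X Y : Obj A}, Pre A X Y → Pre A X Y → Prop
  | refl {X Y} (f : Pre A X Y) : Rel f f
  | symmR {X Y} {f g : Pre A X Y} : Rel f g → Rel g f
  | trans {X Y} {f g h : Pre A X Y} : Rel f g → Rel g h → Rel f h
  | comp_congr {X Y Z} {f f' : Pre A X Y} {g g' : Pre A Y Z} :
      Rel f f' → Rel g g' → Rel (comp f g) (comp f' g')
  | symm_congr {X Y} {f f' : Pre A X Y} : Rel f f' → Rel (Pre.symm f) (Pre.symm f')
  | wl_congr (X) {Y Y'} {f f' : Pre A Y Y'} : Rel f f' → Rel (wl X f) (wl X f')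
  | wr_congr {X X'} {f f' : Pre A X X'} (Y) : Rel f f' → Rel (wr f Y) (wr f' Y)
  | id_comp {X Y} (f : Pre A X Y) : Rel (comp (Pre.id X) f) f
  | comp_id {X Y} (f : Pre A X Y) : Rel (comp f (Pre.id Y)) f
  | comp_assoc {X Y Z W} (f : Pre A X Y) (g : Pre A Y Z) (h : Pre A Z W) :
      Rel (comp (comp f g) h) (comp f (comp g h))
  | symm_comp {X Y} (f : Pre A X Y) : Rel (comp (Pre.symm f) f) (Pre.id Y)
  | comp_symm {X Y} (f : Pre A X Y) : Rel (comp f (Pre.symm f)) (Pre.id X)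
  | wl_id (X Y) : Rel (wl X (Pre.id Y)) (Pre.id _)
  | wr_id (X Y) : Rel (wr (Pre.id X) Y) (Pre.id _)
  | wl_comp (X) {Y Y' Y''} (f : Pre A Y Y') (g : Pre A Y' Y'') :
      Rel (wl X (comp f g)) (comp (wl X f) (wl X g))
  | wr_comp {X X' X''} (f : Pre A X X') (g : Pre A X' X'') (Y) :
      Rel (wr (comp f g) Y) (comp (wr f Y) (wr g Y))
  | exchange {X X' Y Y'} (f : Pre A X X') (g : Pre A Y Y') :
      Rel (comp (wl X g) (wr f Y')) (comp (wr f Y) (wl X' g))
  | assoc_nat₁ {X X'} (f : Pre A X X') (Y Z) :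
      Rel (comp (wr (wr f Y) Z) (assoc X' Y Z)) (comp (assoc X Y Z) (wr f (Obj.tensor Y Z)))
  | assoc_nat₂ (X) {Y Y'} (f : Pre A Y Y') (Z) :
      Rel (comp (wr (wl X f) Z) (assoc X Y' Z)) (comp (assoc X Y Z) (wl X (wr f Z)))
  | assoc_nat₃ (X Y) {Z Z'} (f : Pre A Z Z') :
      Rel (comp (wl (Obj.tensor X Y) f) (assoc X Y Z')) (comp (assoc X Y Z) (wl X (wl Y f)))
  | lu_nat {X Y} (f : Pre A X Y) : Rel (comp (wl Obj.unit f) (lu Y)) (comp (lu X) f)
  | ru_nat {X Y} (f : Pre A X Y) : Rel (comp (wr f Obj.unit) (ru Y)) (comp (ru X) f)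
  | pentagon (W X Y Z) : Rel (comp (wr (assoc W X Y) Z)
      (comp (assoc W (Obj.tensor X Y) Z) (wl W (assoc X Y Z))))
      (comp (assoc (Obj.tensor W X) Y Z) (assoc W X (Obj.tensor Y Z)))
  | triangle (X Y) : Rel (comp (assoc X Obj.unit Y) (wl X (lu Y))) (wr (ru X) Y)
  | braid_nat_right (X) {Y Z} (f : Pre A Y Z) :
      Rel (comp (wl X f) (braid X Z)) (comp (braid X Y) (wr f X))
  | braid_nat_left {X Y} (f : Pre A X Y) (Z) :
      Rel (comp (wr f Z) (braid Y Z)) (comp (braid X Z) (wl Z f))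
  | hexagon (X Y Z) :
      Rel (comp (assoc X Y Z) (comp (braid X (Obj.tensor Y Z)) (assoc Y Z X)))
        (comp (wr (braid X Y) Z) (comp (assoc Y X Z) (wl Y (braid X Z))))
  | hexagon' (X Y Z) :
      Rel (comp (Pre.symm (assoc X Y Z)) (comp (braid (Obj.tensor X Y) Z) (Pre.symm (assoc Z X Y))))
        (comp (wl X (braid Y Z)) (comp (Pre.symm (assoc X Z Y)) (wr (braid X Z) Y)))
  | braid_symm (X Y) : Rel (comp (braid X Y) (braid Y X)) (Pre.id _)
  | map_id (a : A) : Rel (map (𝟙 a)) (Pre.id _)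
  | map_comp {a b c : A} (f : a ⟶ b) (g : b ⟶ c) : Rel (map (f ≫ g)) (comp (map f) (map g))
  | mul_nat_left {a b : A} (f : a ⟶ b) (c : A) :
      Rel (comp (wr (map f) (Obj.of c)) (mul b c)) (comp (mul a c) (map (f ▷ c)))
  | mul_nat_right (c : A) {a b : A} (f : a ⟶ b) :
      Rel (comp (wl (Obj.of c) (map f)) (mul c b)) (comp (mul c a) (map (c ◁ f)))
  | mul_assoc (a b c : A) :
      Rel (comp (wr (mul a b) (Obj.of c)) (comp (mul (a ⊗ b) c) (map (α_ a b c).hom)))
        (comp (assoc _ _ _) (comp (wl (Obj.of a) (mul b c)) (mul a (b ⊗ c))))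
  | mul_left_unit (a : A) :
      Rel (lu (Obj.of a)) (comp (wr one (Obj.of a)) (comp (mul (𝟙_ A) a) (map (λ_ a).hom)))
  | mul_right_unit (a : A) :
      Rel (ru (Obj.of a)) (comp (wl (Obj.of a) one) (comp (mul a (𝟙_ A)) (map (ρ_ a).hom)))
  | mul_braid (a b : A) :
      Rel (comp (mul a b) (map (β_ a b).hom)) (comp (braid _ _) (mul b a))

instance preSetoid (X Y : Obj A) : Setoid (Pre A X Y) :=
  ⟨Rel, ⟨Rel.refl, Rel.symmR, Rel.trans⟩⟩

instance category : Category.{max u v} (Obj A) where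
  Hom X Y := Quotient (preSetoid X Y)
  id X := ⟦Pre.id X⟧
  comp := Quotient.map₂ Pre.comp (fun _ _ hf _ _ hg => Rel.comp_congr hf hg)
  id_comp := by rintro X Y ⟨f⟩; exact Quotient.sound (Rel.id_comp f)
  comp_id := by rintro X Y ⟨f⟩; exact Quotient.sound (Rel.comp_id f)
  assoc := by rintro X Y Z W ⟨f⟩ ⟨g⟩ ⟨h⟩; exact Quotient.sound (Rel.comp_assoc f g h)

/-- The class of a formal morphism. -/
abbrev hom {X Y : Obj A} (f : Pre A X Y) : X ⟶ Y := ⟦f⟧

lemma hom_comp {X Y Z : Obj A} (f : Pre A X Y) (g : Pre A Y Z) :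
    hom (Pre.comp f g) = hom f ≫ hom g := rfl

/-- Every formal morphism is invertible. -/
def isoMk {X Y : Obj A} (f : Pre A X Y) : X ≅ Y where
  hom := hom f
  inv := hom (Pre.symm f)
  hom_inv_id := Quotient.sound (Rel.comp_symm f)
  inv_hom_id := Quotient.sound (Rel.symm_comp f)

instance isGroupoid : IsGroupoid (Obj A) where
  all_isIso f := by
    induction f using Quotient.inductionOn with | _ f
    exact (isoMk f).isIso_hom

/-- Left whiskering. -/
def wlQ (X : Obj A) {Y Y' : Obj A} (f : Y ⟶ Y') : Obj.tensor X Y ⟶ Obj.tensor X Y' :=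
  Quotient.map (Pre.wl X) (fun _ _ h => Rel.wl_congr X h) f

/-- Right whiskering. -/
def wrQ {X X' : Obj A} (f : X ⟶ X') (Y : Obj A) : Obj.tensor X Y ⟶ Obj.tensor X' Y :=
  Quotient.map (fun p => Pre.wr p Y) (fun _ _ h => Rel.wr_congr Y h) f

lemma wlQ_comp (X : Obj A) {Y Y' Y'' : Obj A} (f : Y ⟶ Y') (g : Y' ⟶ Y'') :
    wlQ X (f ≫ g) = wlQ X f ≫ wlQ X g := by
  induction f using Quotient.inductionOn with | _ f
  induction g using Quotient.inductionOn with | _ g
  exact Quotient.sound (Rel.wl_comp X f g)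

lemma wrQ_comp {X X' X'' : Obj A} (f : X ⟶ X') (g : X' ⟶ X'') (Y : Obj A) :
    wrQ (f ≫ g) Y = wrQ f Y ≫ wrQ g Y := by
  induction f using Quotient.inductionOn with | _ f
  induction g using Quotient.inductionOn with | _ g
  exact Quotient.sound (Rel.wr_comp f g Y)

lemma exchangeQ {X X' Y Y' : Obj A} (f : X ⟶ X') (g : Y ⟶ Y') :
    wlQ X g ≫ wrQ f Y' = wrQ f Y ≫ wlQ X' g := by
  induction f using Quotient.inductionOn with | _ f
  induction g using Quotient.inductionOn with | _ g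
  exact Quotient.sound (Rel.exchange f g)

lemma assocQ_nat {X₁ X₂ X₃ Y₁ Y₂ Y₃ : Obj A} (f₁ : X₁ ⟶ Y₁) (f₂ : X₂ ⟶ Y₂) (f₃ : X₃ ⟶ Y₃) :
    (wrQ (wrQ f₁ X₂ ≫ wlQ Y₁ f₂) X₃ ≫ wlQ (Obj.tensor Y₁ Y₂) f₃) ≫ hom (Pre.assoc Y₁ Y₂ Y₃) =
      hom (Pre.assoc X₁ X₂ X₃) ≫
        (wrQ f₁ (Obj.tensor X₂ X₃) ≫ wlQ Y₁ (wrQ f₂ X₃ ≫ wlQ Y₂ f₃)) := by
  induction f₁ using Quotient.inductionOn with | _ f₁
  induction f₂ using Quotient.inductionOn with | _ f₂
  induction f₃ using Quotient.inductionOn with | _ f₃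
  have h₁ : wrQ (wrQ (hom f₁) X₂) X₃ ≫ hom (Pre.assoc Y₁ X₂ X₃) =
      hom (Pre.assoc X₁ X₂ X₃) ≫ wrQ (hom f₁) (Obj.tensor X₂ X₃) :=
    Quotient.sound (Rel.assoc_nat₁ f₁ X₂ X₃)
  have h₂ : wrQ (wlQ Y₁ (hom f₂)) X₃ ≫ hom (Pre.assoc Y₁ Y₂ X₃) =
      hom (Pre.assoc Y₁ X₂ X₃) ≫ wlQ Y₁ (wrQ (hom f₂) X₃) :=
    Quotient.sound (Rel.assoc_nat₂ Y₁ f₂ X₃)
  have h₃ : wlQ (Obj.tensor Y₁ Y₂) (hom f₃) ≫ hom (Pre.assoc Y₁ Y₂ Y₃) =
      hom (Pre.assoc Y₁ Y₂ X₃) ≫ wlQ Y₁ (wlQ Y₂ (hom f₃)) :=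
    Quotient.sound (Rel.assoc_nat₃ Y₁ Y₂ f₃)
  rw [wrQ_comp, wlQ_comp, Category.assoc, Category.assoc, h₃, reassoc_of% h₂, reassoc_of% h₁]

instance monoidal : MonoidalCategory (Obj A) where
  tensorObj X Y := Obj.tensor X Y
  tensorUnit := Obj.unit
  whiskerLeft X _ _ f := wlQ X f
  whiskerRight f Y := wrQ f Y
  tensorHom {X₁ Y₁ X₂ Y₂} f g := wrQ f X₂ ≫ wlQ Y₁ g
  tensorHom_def _ _ := rfl
  id_tensorHom_id X Y := by
    have h₁ : wrQ (𝟙 X) Y = 𝟙 (Obj.tensor X Y) := Quotient.sound (Rel.wr_id X Y)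
    have h₂ : wlQ X (𝟙 Y) = 𝟙 (Obj.tensor X Y) := Quotient.sound (Rel.wl_id X Y)
    rw [h₁, h₂, Category.id_comp]
  tensorHom_comp_tensorHom f₁ f₂ g₁ g₂ := by
    rw [wrQ_comp, wlQ_comp]
    simp only [Category.assoc]
    rw [← Category.assoc (wlQ _ f₂), exchangeQ, Category.assoc]
  whiskerLeft_id X Y := Quotient.sound (Rel.wl_id X Y)
  id_whiskerRight X Y := Quotient.sound (Rel.wr_id X Y)
  associator X Y Z := isoMk (Pre.assoc X Y Z)
  associator_naturality f₁ f₂ f₃ := assocQ_nat f₁ f₂ f₃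
  leftUnitor X := isoMk (Pre.lu X)
  leftUnitor_naturality f := by
    induction f using Quotient.inductionOn with | _ f
    exact Quotient.sound (Rel.lu_nat f)
  rightUnitor X := isoMk (Pre.ru X)
  rightUnitor_naturality f := by
    induction f using Quotient.inductionOn with | _ f
    exact Quotient.sound (Rel.ru_nat f)
  pentagon W X Y Z := Quotient.sound (Rel.pentagon W X Y Z)
  triangle X Y := Quotient.sound (Rel.triangle X Y)

instance symmetric : SymmetricCategory (Obj A) where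
  braiding X Y := isoMk (Pre.braid X Y)
  braiding_naturality_right X _ _ f := by
    induction f using Quotient.inductionOn with | _ f
    exact Quotient.sound (Rel.braid_nat_right X f)
  braiding_naturality_left f Z := by
    induction f using Quotient.inductionOn with | _ f
    exact Quotient.sound (Rel.braid_nat_left f Z)
  hexagon_forward X Y Z := Quotient.sound (Rel.hexagon X Y Z)
  hexagon_reverse X Y Z := Quotient.sound (Rel.hexagon' X Y Z)
  symmetry X Y := Quotient.sound (Rel.braid_symm X Y)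

variable (A) in
/-- The canonical functor. -/
def incl : A ⥤ Obj A where
  obj a := Obj.of a
  map f := hom (Pre.map f)
  map_id a := Quotient.sound (Rel.map_id a)
  map_comp f g := Quotient.sound (Rel.map_comp f g)

instance laxBraided_incl : (incl A).LaxBraided where
  ε := hom Pre.one
  μ a b := hom (Pre.mul a b)
  μ_natural_left f c := Quotient.sound (Rel.mul_nat_left f c)
  μ_natural_right c f := Quotient.sound (Rel.mul_nat_right c f)
  associativity a b c := Quotient.sound (Rel.mul_assoc a b c)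
  left_unitality a := Quotient.sound (Rel.mul_left_unit a)
  right_unitality a := Quotient.sound (Rel.mul_right_unit a)
  braided a b := Quotient.sound (Rel.mul_braid a b)

/-- The inverse of a formal object. -/
def dualIso (X : Obj A) : Obj.dual X ⊗ X ≅ 𝟙_ (Obj A) := isoMk (Pre.ev X)

/-- The inverse of a formal object, on the other side. -/
def dualIso' (X : Obj A) : X ⊗ Obj.dual X ≅ 𝟙_ (Obj A) := β_ X (Obj.dual X) ≪≫ dualIso X

theorem isEquivalence_tensor (X : Obj A) :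
    (tensorLeft X).IsEquivalence ∧ (tensorRight X).IsEquivalence :=
  ⟨(CategoryTheory.Equivalence.mk (tensorLeft X) (tensorLeft (Obj.dual X))
      ((leftUnitorNatIso (Obj A)).symm ≪≫ (tensoringLeft (Obj A)).mapIso (dualIso X).symm ≪≫
        tensorLeftTensor _ _)
      ((tensorLeftTensor _ _).symm ≪≫ (tensoringLeft (Obj A)).mapIso (dualIso' X) ≪≫
        leftUnitorNatIso (Obj A))).isEquivalence_functor,
   (CategoryTheory.Equivalence.mk (tensorRight X) (tensorRight (Obj.dual X))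
      ((rightUnitorNatIso (Obj A)).symm ≪≫ (tensoringRight (Obj A)).mapIso (dualIso' X).symm ≪≫
        tensorRightTensor _ _)
      ((tensorRightTensor _ _).symm ≪≫ (tensoringRight (Obj A)).mapIso (dualIso X) ≪≫
        rightUnitorNatIso (Obj A))).isEquivalence_functor⟩

end Groth.PicardLib
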