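import Groth.Agent.PicardLib.Free
import Mathlib.CategoryTheory.Functor.FullyFaithful

/-! The universal property of the free Picard category. -/

universe v v' u u'

open CategoryTheory MonoidalCategory Functor.LaxMonoidal

namespace Groth.PicardLib

noncomputable section

variable {A : Type u} [Category.{v} A] [MonoidalCategory A] [SymmetricCategory A]
  {P : Type u'} [Category.{v'} P] [MonoidalCategory P] [SymmetricCategory P] [IsGroupoid P]
  (hP : ∀ X : P, (tensorLeft X).IsEquivalence ∧ (tensorRight X).IsEquivalence)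

omit [SymmetricCategory P] [IsGroupoid P] in
include hP in
lemma essSurj_tensorRight (X : P) : (tensorRight X).EssSurj :=
  haveI := (hP X).2
  inferInstance

/-- The chosen inverse of an object. -/
def dualP (X : P) : P :=
  haveI := essSurj_tensorRight hP X
  (tensorRight X).objPreimage (𝟙_ P)

/-- Its defining isomorphism. -/
def dualPIso (X : P) : dualP hP X ⊗ X ≅ 𝟙_ P :=
  haveI := essSurj_tensorRight hP X
  (tensorRight X).objObjPreimageIso (𝟙_ P)

section Extend

variable (Φ : A ⥤ P) [Φ.LaxBraided]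

/-- Evaluation of objects. -/
def evalObj : Obj A → P
  | .of a => Φ.obj a
  | .unit => 𝟙_ P
  | .tensor X Y => evalObj X ⊗ evalObj Y
  | .dual X => dualP hP (evalObj X)

/-- Evaluation of formal morphisms. -/
def evalPre : ∀ {X Y : Obj A}, Pre A X Y → (evalObj hP Φ X ⟶ evalObj hP Φ Y)
  | _, _, .id _ => 𝟙 _
  | _, _, .comp f g => evalPre f ≫ evalPre g
  | _, _, .symm f => CategoryTheory.inv (evalPre f)
  | _, _, .wl X f => evalObj hP Φ X ◁ evalPre f
  | _, _, .wr f Y => evalPre f ▷ evalObj hP Φ Y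
  | _, _, .assoc _ _ _ => (α_ _ _ _).hom
  | _, _, .lu _ => (λ_ _).hom
  | _, _, .ru _ => (ρ_ _).hom
  | _, _, .braid _ _ => (β_ _ _).hom
  | _, _, .ev X => (dualPIso hP (evalObj hP Φ X)).hom
  | _, _, .map f => Φ.map f
  | _, _, .mul a b => μ Φ a b
  | _, _, .one => ε Φ

set_option backward.isDefEq.respectTransparency false in
lemma evalPre_eq {X Y : Obj A} {f g : Pre A X Y} (h : Rel f g) :
    evalPre hP Φ f = evalPre hP Φ g := by
  induction h with
  | refl => rfl
  | symmR _ ih => exact ih.symm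
  | trans _ _ ih ih' => exact ih.trans ih'
  | comp_congr _ _ ih ih' => simp only [evalPre, ih, ih']
  | symm_congr _ ih => simp only [evalPre, ih]
  | wl_congr X _ ih => simp only [evalPre, ih]
  | wr_congr Y _ ih => simp only [evalPre, ih]
  | id_comp f => exact Category.id_comp _
  | comp_id f => exact Category.comp_id _
  | comp_assoc f g k => exact Category.assoc _ _ _
  | symm_comp f => exact IsIso.inv_hom_id _
  | comp_symm f => exact IsIso.hom_inv_id _
  | wl_id X Y => exact MonoidalCategory.whiskerLeft_id _ _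
  | wr_id X Y => exact MonoidalCategory.id_whiskerRight _ _
  | wl_comp X f g => exact MonoidalCategory.whiskerLeft_comp _ _ _
  | wr_comp f g Y => exact MonoidalCategory.comp_whiskerRight _ _ _
  | exchange f g => exact MonoidalCategory.whisker_exchange _ _
  | assoc_nat₁ f Y Z => exact MonoidalCategory.associator_naturality_left _ _ _
  | assoc_nat₂ X f Z => exact MonoidalCategory.associator_naturality_middle _ _ _
  | assoc_nat₃ X Y f => exact MonoidalCategory.associator_naturality_right _ _ _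
  | lu_nat f => exact MonoidalCategory.leftUnitor_naturality _
  | ru_nat f => exact MonoidalCategory.rightUnitor_naturality _
  | pentagon W X Y Z => exact MonoidalCategory.pentagon _ _ _ _
  | triangle X Y => exact MonoidalCategory.triangle _ _
  | braid_nat_right X f => exact BraidedCategory.braiding_naturality_right _ _
  | braid_nat_left f Z => exact BraidedCategory.braiding_naturality_left _ _
  | hexagon X Y Z => exact BraidedCategory.hexagon_forward _ _ _
  | hexagon' X Y Z =>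
    simp only [evalPre, IsIso.Iso.inv_hom]
    exact BraidedCategory.hexagon_reverse _ _ _
  | braid_symm X Y => exact SymmetricCategory.symmetry _ _
  | map_id a => exact Φ.map_id a
  | map_comp f g => exact Φ.map_comp f g
  | mul_nat_left f c => exact μ_natural_left Φ f c
  | mul_nat_right c f => exact μ_natural_right Φ c f
  | mul_assoc a b c => exact associativity Φ a b c
  | mul_left_unit a => exact left_unitality Φ a
  | mul_right_unit a => exact right_unitality Φ a
  | mul_braid a b => exact Functor.LaxBraided.braided a b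

/-- The extension to the free Picard category. -/
def extend : Obj A ⥤ P where
  obj := evalObj hP Φ
  map f := Quotient.lift (evalPre hP Φ) (fun _ _ h => evalPre_eq hP Φ h) f
  map_id _ := rfl
  map_comp := by rintro _ _ _ ⟨f⟩ ⟨g⟩; rfl

instance laxBraided_extend : (extend hP Φ).LaxBraided where
  ε := 𝟙 _
  μ _ _ := 𝟙 _
  μ_natural_left f Z := by
    induction f using Quotient.inductionOn with | _ f
    exact (Category.comp_id _).trans (Category.id_comp _).symm
  μ_natural_right Z f := by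
    induction f using Quotient.inductionOn with | _ f
    exact (Category.comp_id _).trans (Category.id_comp _).symm
  associativity X Y Z := by
    erw [MonoidalCategory.id_whiskerRight, MonoidalCategory.whiskerLeft_id, Category.id_comp,
      Category.id_comp, Category.comp_id, Category.comp_id]
    rfl
  left_unitality X := by
    erw [MonoidalCategory.id_whiskerRight, Category.id_comp, Category.id_comp]
    rfl
  right_unitality X := by
    erw [MonoidalCategory.whiskerLeft_id, Category.id_comp, Category.id_comp]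
    rfl
  braided X Y := by
    erw [Category.id_comp, Category.comp_id]
    rfl

/-- The extension restricts to the given functor. -/
def extendIso : incl A ⋙ extend hP Φ ≅ Φ :=
  NatIso.ofComponents (fun _ => Iso.refl _)
    (fun _ => (Category.comp_id _).trans (Category.id_comp _).symm)

lemma isMonoidal_extendIso : NatTrans.IsMonoidal (extendIso hP Φ).hom where
  unit := (Category.comp_id _).trans (Category.id_comp _)
  tensor a b := by
    refine (Category.comp_id _).trans ((Category.id_comp _).trans ?_)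
    change μ Φ a b = (𝟙 _ ⊗ₘ 𝟙 _) ≫ μ Φ a b
    erw [MonoidalCategory.id_tensorHom_id, Category.id_comp]

end Extend

section Whisker

variable {Ψ Ψ' : Obj A ⥤ P} [Ψ.LaxBraided] [Ψ'.LaxBraided] (τ : incl A ⋙ Ψ ⟶ incl A ⋙ Ψ')

omit [SymmetricCategory P] [IsGroupoid P] in
include hP in
lemma tensorRight_bijective (Z : P) (X Y : P) :
    Function.Bijective fun f : X ⟶ Y => f ▷ Z :=
  haveI := (hP Z).2
  (Functor.FullyFaithful.ofFullyFaithful (tensorRight Z)).map_bijective X Y

/-- The components of the extended transformation. -/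
def thetaApp : ∀ X : Obj A, Ψ.obj X ⟶ Ψ'.obj X
  | .of a => τ.app a
  | .unit => CategoryTheory.inv (ε Ψ) ≫ ε Ψ'
  | .tensor X Y => CategoryTheory.inv (μ Ψ X Y) ≫ (thetaApp X ⊗ₘ thetaApp Y) ≫ μ Ψ' X Y
  | .dual X => (tensorRight_bijective hP (Ψ.obj X) (Ψ.obj (Obj.dual X)) (Ψ'.obj (Obj.dual X))).2
      (μ Ψ (Obj.dual X) X ≫ Ψ.map (hom (Pre.ev X)) ≫ (CategoryTheory.inv (ε Ψ) ≫ ε Ψ') ≫
        CategoryTheory.inv (μ Ψ' (Obj.dual X) X ≫ Ψ'.map (hom (Pre.ev X))) ≫
        CategoryTheory.inv (Ψ'.obj (Obj.dual X) ◁ thetaApp X)) |>.choose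

lemma theta_mul (X Y : Obj A) :
    μ Ψ X Y ≫ thetaApp hP τ (Obj.tensor X Y) = (thetaApp hP τ X ⊗ₘ thetaApp hP τ Y) ≫ μ Ψ' X Y := by
  simp [thetaApp]

lemma theta_one : ε Ψ ≫ thetaApp hP τ Obj.unit = ε Ψ' := by
  simp [thetaApp]

lemma theta_dual (X : Obj A) :
    thetaApp hP τ (Obj.dual X) ▷ Ψ.obj X =
      μ Ψ (Obj.dual X) X ≫ Ψ.map (hom (Pre.ev X)) ≫ (CategoryTheory.inv (ε Ψ) ≫ ε Ψ') ≫
        CategoryTheory.inv (μ Ψ' (Obj.dual X) X ≫ Ψ'.map (hom (Pre.ev X))) ≫
        CategoryTheory.inv (Ψ'.obj (Obj.dual X) ◁ thetaApp hP τ X) :=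
  ((tensorRight_bijective hP (Ψ.obj X) (Ψ.obj (Obj.dual X)) (Ψ'.obj (Obj.dual X))).2
    (μ Ψ (Obj.dual X) X ≫ Ψ.map (hom (Pre.ev X)) ≫ (CategoryTheory.inv (ε Ψ) ≫ ε Ψ') ≫
      CategoryTheory.inv (μ Ψ' (Obj.dual X) X ≫ Ψ'.map (hom (Pre.ev X))) ≫
      CategoryTheory.inv (Ψ'.obj (Obj.dual X) ◁ thetaApp hP τ X))).choose_spec

lemma theta_natural [NatTrans.IsMonoidal τ] : ∀ {X Y : Obj A} (f : Pre A X Y),
    Ψ.map (hom f) ≫ thetaApp hP τ Y = thetaApp hP τ X ≫ Ψ'.map (hom f)
  | _, _, .id X => by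
    change Ψ.map (𝟙 X) ≫ _ = _ ≫ Ψ'.map (𝟙 X)
    simp
  | _, _, .comp f g => by
    rw [hom_comp, Functor.map_comp, Functor.map_comp, Category.assoc, theta_natural g,
      ← Category.assoc, theta_natural f, Category.assoc]
  | _, _, .symm f => by
    change Ψ.map (isoMk f).inv ≫ _ = _ ≫ Ψ'.map (isoMk f).inv
    rw [← cancel_epi (Ψ.map (isoMk f).hom), ← Category.assoc, ← Functor.map_comp, Iso.hom_inv_id,
      CategoryTheory.Functor.map_id, Category.id_comp, ← Category.assoc]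
    change _ = (Ψ.map (hom f) ≫ _) ≫ _
    rw [theta_natural f, Category.assoc]
    change _ = _ ≫ Ψ'.map (isoMk f).hom ≫ Ψ'.map (isoMk f).inv
    rw [← Functor.map_comp, Iso.hom_inv_id, CategoryTheory.Functor.map_id, Category.comp_id]
  | _, _, .wl X (Y := Y) (Y' := Y') f => by
    have ih := theta_natural f
    rw [← cancel_epi (μ Ψ X Y)]
    change μ Ψ X Y ≫ Ψ.map (X ◁ hom f) ≫ _ = μ Ψ X Y ≫ _ ≫ Ψ'.map (X ◁ hom f)
    rw [← μ_natural_right_assoc, theta_mul, ← Category.assoc (μ Ψ X Y), theta_mul, Category.assoc,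
      ← μ_natural_right, ← Category.assoc, ← Category.assoc]
    congr 1
    rw [← id_tensorHom, ← id_tensorHom, tensorHom_comp_tensorHom, tensorHom_comp_tensorHom, ih,
      Category.id_comp, Category.comp_id]
  | _, _, .wr (X := X) (X' := X') f Y => by
    have ih := theta_natural f
    rw [← cancel_epi (μ Ψ X Y)]
    change μ Ψ X Y ≫ Ψ.map (hom f ▷ Y) ≫ _ = μ Ψ X Y ≫ _ ≫ Ψ'.map (hom f ▷ Y)
    rw [← μ_natural_left_assoc, theta_mul, ← Category.assoc (μ Ψ X Y), theta_mul, Category.assoc,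
      ← μ_natural_left, ← Category.assoc, ← Category.assoc]
    congr 1
    rw [← tensorHom_id, ← tensorHom_id, tensorHom_comp_tensorHom, tensorHom_comp_tensorHom, ih,
      Category.id_comp, Category.comp_id]
  | _, _, .assoc X Y Z => by
    rw [← cancel_epi (μ Ψ (X ⊗ Y) Z), ← cancel_epi (μ Ψ X Y ▷ Ψ.obj Z)]
    change μ Ψ X Y ▷ Ψ.obj Z ≫ μ Ψ (X ⊗ Y) Z ≫ Ψ.map (α_ X Y Z).hom ≫ thetaApp hP τ (Obj.tensor X (Y ⊗ Z)) =
      μ Ψ X Y ▷ Ψ.obj Z ≫ μ Ψ (X ⊗ Y) Z ≫ thetaApp hP τ (Obj.tensor (X ⊗ Y) Z) ≫ Ψ'.map (α_ X Y Z).hom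
    rw [associativity_assoc, ← Category.assoc (μ Ψ (X ⊗ Y) Z) (thetaApp hP τ (Obj.tensor (X ⊗ Y) Z)),
      theta_mul, theta_mul]
    have h1 : μ Ψ X Y ▷ Ψ.obj Z ≫ (thetaApp hP τ (X ⊗ Y) ⊗ₘ thetaApp hP τ Z) =
        ((thetaApp hP τ X ⊗ₘ thetaApp hP τ Y) ⊗ₘ thetaApp hP τ Z) ≫ μ Ψ' X Y ▷ Ψ'.obj Z := by
      rw [← tensorHom_id, ← tensorHom_id, tensorHom_comp_tensorHom, tensorHom_comp_tensorHom]
      congr 1
      · exact theta_mul hP τ X Y
      · simp
    have h2 : Ψ.obj X ◁ μ Ψ Y Z ≫ (thetaApp hP τ X ⊗ₘ thetaApp hP τ (Y ⊗ Z)) =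
        (thetaApp hP τ X ⊗ₘ (thetaApp hP τ Y ⊗ₘ thetaApp hP τ Z)) ≫ Ψ'.obj X ◁ μ Ψ' Y Z := by
      rw [← id_tensorHom, ← id_tensorHom, tensorHom_comp_tensorHom, tensorHom_comp_tensorHom]
      congr 1
      · simp
      · exact theta_mul hP τ Y Z
    simp only [Category.assoc]
    rw [reassoc_of% h1, reassoc_of% h2, associativity, associator_naturality_assoc]
  | _, _, .lu X => by
    rw [← cancel_epi (ε Ψ ▷ Ψ.obj X ≫ μ Ψ (𝟙_ _) X)]
    change (ε Ψ ▷ Ψ.obj X ≫ μ Ψ (𝟙_ _) X) ≫ Ψ.map (λ_ X).hom ≫ _ =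
      (ε Ψ ▷ Ψ.obj X ≫ μ Ψ (𝟙_ _) X) ≫ thetaApp hP τ (Obj.tensor Obj.unit X) ≫ Ψ'.map (λ_ X).hom
    simp only [Category.assoc]
    rw [← Category.assoc (μ Ψ (𝟙_ _) X) (thetaApp hP τ (Obj.tensor Obj.unit X))]
    erw [theta_mul]
    have h1 : ε Ψ ▷ Ψ.obj X ≫ (thetaApp hP τ Obj.unit ⊗ₘ thetaApp hP τ X) =
        𝟙_ P ◁ thetaApp hP τ X ≫ ε Ψ' ▷ Ψ'.obj X := by
      rw [← tensorHom_id, tensorHom_comp_tensorHom, theta_one, Category.id_comp,
        ← tensorHom_def']
    simp only [Category.assoc]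
    erw [reassoc_of% h1]
    rw [← left_unitality, leftUnitor_naturality, ← left_unitality_assoc]
  | _, _, .ru X => by
    rw [← cancel_epi (Ψ.obj X ◁ ε Ψ ≫ μ Ψ X (𝟙_ _))]
    change (Ψ.obj X ◁ ε Ψ ≫ μ Ψ X (𝟙_ _)) ≫ Ψ.map (ρ_ X).hom ≫ _ =
      (Ψ.obj X ◁ ε Ψ ≫ μ Ψ X (𝟙_ _)) ≫ thetaApp hP τ (Obj.tensor X Obj.unit) ≫ Ψ'.map (ρ_ X).hom
    simp only [Category.assoc]
    rw [← Category.assoc (μ Ψ X (𝟙_ _)) (thetaApp hP τ (Obj.tensor X Obj.unit))]
    erw [theta_mul]
    have h1 : Ψ.obj X ◁ ε Ψ ≫ (thetaApp hP τ X ⊗ₘ thetaApp hP τ Obj.unit) =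
        thetaApp hP τ X ▷ 𝟙_ P ≫ Ψ'.obj X ◁ ε Ψ' := by
      rw [← id_tensorHom, tensorHom_comp_tensorHom, theta_one, Category.id_comp, ← tensorHom_def]
    simp only [Category.assoc]
    erw [reassoc_of% h1]
    rw [← right_unitality, rightUnitor_naturality, ← right_unitality_assoc]
  | _, _, .braid X Y => by
    rw [← cancel_epi (μ Ψ X Y)]
    change μ Ψ X Y ≫ Ψ.map (β_ X Y).hom ≫ thetaApp hP τ (Obj.tensor Y X) =
      μ Ψ X Y ≫ thetaApp hP τ (Obj.tensor X Y) ≫ Ψ'.map (β_ X Y).hom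
    rw [Functor.LaxBraided.braided_assoc, theta_mul, ← Category.assoc (μ Ψ X Y), theta_mul,
      Category.assoc, Functor.LaxBraided.braided, BraidedCategory.braiding_naturality_assoc]
  | _, _, .ev X => by
    rw [← cancel_epi (μ Ψ (Obj.dual X) X)]
    erw [← Category.assoc (μ Ψ (Obj.dual X) X) (thetaApp hP τ (Obj.tensor (Obj.dual X) X))]
    erw [theta_mul, tensorHom_def, theta_dual]
    simp [thetaApp, Category.assoc]
    erw [IsIso.inv_hom_id, Category.comp_id]; rfl
  | _, _, .map f => τ.naturality f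
  | _, _, .mul a b => by
    have h := NatTrans.IsMonoidal.tensor (τ := τ) a b
    simp only [comp_μ, Category.assoc] at h
    rw [← cancel_epi (μ Ψ (Obj.of a) (Obj.of b))]
    erw [← Category.assoc (μ Ψ (Obj.of a) (Obj.of b))
      (thetaApp hP τ (Obj.tensor (Obj.of a) (Obj.of b))), theta_mul, Category.assoc]
    exact h
  | _, _, .one => by
    have h := NatTrans.IsMonoidal.unit (τ := τ)
    simp only [comp_ε, Category.assoc] at h
    rw [← cancel_epi (ε Ψ)]
    erw [← Category.assoc (ε Ψ) (thetaApp hP τ Obj.unit), theta_one]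
    exact h

include hP in
theorem existsUnique_whisker [NatTrans.IsMonoidal τ] :
    ∃! θ : Ψ ⟶ Ψ', NatTrans.IsMonoidal θ ∧ Functor.whiskerLeft (incl A) θ = τ := by
  let θ : Ψ ⟶ Ψ' := { app := thetaApp hP τ, naturality := by rintro X Y ⟨f⟩; exact theta_natural hP τ f }
  refine ⟨θ, ⟨⟨theta_one hP τ, fun X Y => theta_mul hP τ X Y⟩, ?_⟩, ?_⟩
  · ext a
    rfl
  · rintro θ' ⟨hm, hw⟩
    ext X
    change θ'.app X = thetaApp hP τ X
    induction X with
    | of a => exact NatTrans.congr_app hw a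
    | unit =>
      rw [← cancel_epi (ε Ψ), theta_one]
      exact hm.unit
    | tensor X Y ihX ihY =>
      rw [← cancel_epi (μ Ψ X Y), theta_mul, ← ihX, ← ihY]
      exact hm.tensor X Y
    | dual X ih =>
      apply (tensorRight_bijective hP (Ψ.obj X) _ _).1
      change θ'.app (Obj.dual X) ▷ Ψ.obj X = thetaApp hP τ (Obj.dual X) ▷ Ψ.obj X
      rw [← cancel_mono (Ψ'.obj (Obj.dual X) ◁ thetaApp hP τ X),
        ← cancel_mono (μ Ψ' (Obj.dual X) X), ← cancel_mono (Ψ'.map (hom (Pre.ev X))), theta_dual]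
      rw [← ih]
      simp only [Category.assoc, IsIso.inv_hom_id_assoc, IsIso.inv_comp]
      rw [← tensorHom_def_assoc, ← hm.tensor_assoc]
      erw [← θ'.naturality]
      have hu : θ'.app (𝟙_ _) = CategoryTheory.inv (ε Ψ) ≫ ε Ψ' := by
        rw [IsIso.eq_inv_comp]
        exact hm.unit
      change μ Ψ _ _ ≫ Ψ.map _ ≫ θ'.app (𝟙_ _) = _
      simp [hu]
      erw [IsIso.inv_hom_id, Category.comp_id]; rfl

end Whisker

end

end Groth.PicardLib
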